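import Mathlib

/-!
# Lifting standard étale algebras along generalized localizations of quotients
-/

set_option autoImplicit false
set_option backward.isDefEq.respectTransparency false
set_option linter.style.haveILetI false

open Polynomial CategoryTheory

universe u

namespace Groth.Agent.EtFibreLift

theorem exists_lift_standard {B F G : Type u} [CommRing B] [CommRing F] [CommRing G] [Algebra F G] [Nontrivial F]
    (χ : B →+* F) (hχ : ∀ z, ∃ σ b, IsUnit (χ σ) ∧ χ σ * z = χ b) [Algebra.IsStandardEtale F G] :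
    ∃ (σ : B) (χ' : Localization.Away σ →+* F), χ'.comp (algebraMap B (Localization.Away σ)) = χ ∧
      ∃ (R : CommRingCat.{u}) (α : Localization.Away σ →+* R) (β : R →+* G), α.Etale ∧
        IsPushout (CommRingCat.ofHom χ') (CommRingCat.ofHom α) (CommRingCat.ofHom (algebraMap F G))
          (CommRingCat.ofHom β) := by
  classical
  obtain ⟨P⟩ := (Algebra.IsStandardEtale.nonempty_standardEtalePresentation (R := F) (S := G))
  choose s b hs hsb using hχ
  let Cs : Finset F := P.f.coeffs ∪ P.g.coeffs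
  let σ : B := ∏ z ∈ Cs, s z
  have hσ : IsUnit (χ σ) := by
    rw [map_prod]
    exact IsUnit.prod_iff.2 fun z _ => hs z
  let χ' : Localization.Away σ →+* F := IsLocalization.Away.lift σ hσ
  have hχ' : χ'.comp (algebraMap B (Localization.Away σ)) = χ := IsLocalization.lift_comp _
  have hr : ∀ z, z = 0 ∨ z ∈ Cs → z ∈ Set.range χ' := by
    rintro z (rfl | hz)
    · exact ⟨0, map_zero _⟩
    refine ⟨algebraMap B _ (b z * ∏ w ∈ Cs.erase z, s w) * IsLocalization.Away.invSelf σ, ?_⟩
    have h1 : χ' (IsLocalization.Away.invSelf σ) * χ σ = 1 := by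
      rw [← RingHom.congr_fun hχ' σ, RingHom.comp_apply, ← map_mul, mul_comm, IsLocalization.Away.mul_invSelf,
        map_one]
    have h2 : χ σ = χ (s z) * χ (∏ w ∈ Cs.erase z, s w) := by
      rw [← map_mul, Finset.mul_prod_erase _ _ hz]
    rw [map_mul, ← RingHom.comp_apply χ', hχ', map_mul, ← hsb]
    calc χ (s z) * z * χ (∏ w ∈ Cs.erase z, s w) * χ' (IsLocalization.Away.invSelf σ)
        = z * (χ' (IsLocalization.Away.invSelf σ) * χ σ) := by rw [h2]; ring
      _ = z := by rw [h1, mul_one]
  have hcoef : ∀ p : F[X], p.coeffs ⊆ Cs → p ∈ lifts χ' := fun p hp => by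
    rw [lifts_iff_coeff_lifts]
    intro n
    refine hr _ ?_
    by_cases h : p.coeff n = 0
    · exact Or.inl h
    · exact Or.inr (hp (coeff_mem_coeffs h))
  obtain ⟨f₀, hf₀, -, hf₀m⟩ := lifts_and_degree_eq_and_monic (hcoef P.f Finset.subset_union_left) P.monic_f
  obtain ⟨g₀, hg₀⟩ := (mem_lifts _).1 (hcoef P.g Finset.subset_union_right)
  let P₀ : StandardEtalePair (Localization.Away σ) :=
    ⟨f₀, hf₀m, g₀ * derivative f₀, g₀, 0, 1, by ring⟩
  letI : Algebra (Localization.Away σ) G := ((algebraMap F G).comp χ').toAlgebra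
  have hev : ∀ (p : (Localization.Away σ)[X]) {C : Type u} [CommRing C] [Algebra (Localization.Away σ) C] [Algebra F C]
      (_ : algebraMap (Localization.Away σ) C = (algebraMap F C).comp χ') (y : C),
      aeval y p = aeval y (p.map χ') := by
    intro p C _ _ _ hc y
    rw [aeval_def, aeval_def, eval₂_map, hc]
  have hmap : P₀.HasMap P.x := by
    refine ⟨?_, ?_⟩
    · rw [hev f₀ (C := G) rfl P.x, hf₀]
      exact P.hasMap.1
    · rw [map_mul, hev g₀ (C := G) rfl P.x, hg₀, hev (derivative f₀) (C := G) rfl P.x, ← derivative_map, hf₀]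
      exact P.hasMap.2.mul P.hasMap.isUnit_derivative_f
  let β : P₀.Ring →ₐ[Localization.Away σ] G := P₀.lift P.x hmap
  refine ⟨σ, χ', hχ', CommRingCat.of P₀.Ring, algebraMap _ P₀.Ring, β.toRingHom,
    RingHom.etale_algebraMap.2 inferInstance, ?_⟩
  refine ⟨⟨CommRingCat.hom_ext (RingHom.ext fun a => (β.commutes a).symm)⟩, ⟨Limits.PushoutCocone.IsColimit.mk _
    (fun c => ?_) (fun c => ?_) (fun c => ?_) (fun c m hm₁ hm₂ => ?_)⟩⟩
  all_goals
    letI : Algebra F c.pt := c.inl.hom.toAlgebra
    letI : Algebra (Localization.Away σ) c.pt := (c.inl.hom.comp χ').toAlgebra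
    have hc : ∀ a, c.inr.hom (algebraMap (Localization.Away σ) P₀.Ring a) = algebraMap (Localization.Away σ) c.pt a :=
      fun a => (congrArg (fun k : CommRingCat.of (Localization.Away σ) ⟶ c.pt => k.hom a) c.condition).symm
    let ψ : P₀.Ring →ₐ[Localization.Away σ] c.pt := { c.inr.hom with commutes' := hc }
    have hy : P.HasMap (ψ P₀.X) := by
      have h := P₀.hasMap_X.map ψ
      refine ⟨?_, ?_⟩
      · rw [← hf₀, ← hev f₀ (C := c.pt) rfl (ψ P₀.X)]
        exact h.1
      · rw [← hg₀, ← hev g₀ (C := c.pt) rfl (ψ P₀.X)]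
        exact isUnit_of_mul_isUnit_left (by rw [← map_mul]; exact h.2)
    let φ : G →ₐ[F] c.pt := (P.lift (ψ P₀.X) hy).comp P.equivRing.toAlgHom
    have hφx : φ P.x = ψ P₀.X := by simp [φ]
  · exact CommRingCat.ofHom φ.toRingHom
  · exact CommRingCat.hom_ext (RingHom.ext fun a => φ.commutes a)
  · refine CommRingCat.hom_ext ?_
    let φ' : G →ₐ[Localization.Away σ] c.pt :=
      { φ.toRingHom with commutes' := fun a => φ.commutes (χ' a) }
    have : φ'.comp β = ψ := P₀.hom_ext (by simp [β, φ', hφx])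
    exact congrArg AlgHom.toRingHom this
  · refine CommRingCat.hom_ext ?_
    let m' : G →ₐ[F] c.pt :=
      { m.hom with commutes' := fun a => congrArg (fun k : CommRingCat.of F ⟶ c.pt => k.hom a) hm₁ }
    have : m' = φ := P.hom_ext (by
      rw [hφx, ← show β P₀.X = P.x from P₀.lift_X _ hmap]
      exact congrArg (fun k : CommRingCat.of P₀.Ring ⟶ c.pt => k.hom P₀.X) hm₂)
    exact congrArg AlgHom.toRingHom this

end Groth.Agent.EtFibreLift
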