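import Groth.Agent.EtFibreLift.Algebra
import Groth.Prelude.Def_MoreMor

/-!
# Étale neighbourhoods in a fibre lift to the total space
-/

set_option autoImplicit false
set_option backward.isDefEq.respectTransparency false
set_option backward.isDefEq.respectTransparency.types false
set_option linter.style.haveILetI false
set_option maxHeartbeats 1000000

open AlgebraicGeometry CategoryTheory CategoryTheory.Limits TensorProduct

universe u

namespace Groth.Agent.EtFibreLift

/-- A factorization through a monomorphism is a pullback. -/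
theorem isPullback_of_mono_fac {P Q R : Scheme.{u}} (a : P ⟶ Q) (m : Q ⟶ R) [Mono m] (b : P ⟶ R) (h : a ≫ m = b) :
    IsPullback a (𝟙 P) m b :=
  ⟨⟨by rw [h, Category.id_comp]⟩, ⟨PullbackCone.IsLimit.mk _ (fun c => c.snd)
    (fun c => by rw [← cancel_mono m, Category.assoc, h]; exact c.condition.symm)
    (fun c => Category.comp_id _) (fun c k _ hk => (Category.comp_id k).symm.trans hk)⟩⟩

variable {X S : Scheme.{u}} (f : X ⟶ S)

/-- Elements of residue fields are fractions of sections on an affine open. -/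
theorem exists_fraction {V : S.Opens} (hV : IsAffineOpen V) (s : S) (hs : s ∈ V) (k : S.residueField s) :
    ∃ σ a : Γ(S, V), S.evaluation V s hs σ ≠ 0 ∧ S.evaluation V s hs σ * k = S.evaluation V s hs a := by
  letI := (S.presheaf.germ V s hs).hom.toAlgebra
  haveI := hV.isLocalization_stalk ⟨s, hs⟩
  obtain ⟨k, rfl⟩ := IsLocalRing.residue_surjective k
  obtain ⟨⟨a, σ⟩, e⟩ := IsLocalization.surj (hV.primeIdealOf ⟨s, hs⟩).asIdeal.primeCompl k
  refine ⟨σ.1, a, ?_, ?_⟩
  · show IsLocalRing.residue _ ((S.presheaf.germ V s hs).hom σ.1) ≠ 0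
    rw [Ne, IsLocalRing.residue_eq_zero_iff, IsLocalRing.mem_maximalIdeal]
    exact not_not.2 (IsLocalization.map_units (S.presheaf.stalk s) σ)
  · show IsLocalRing.residue _ ((S.presheaf.germ V s hs).hom σ.1) * IsLocalRing.residue _ k =
      IsLocalRing.residue _ ((S.presheaf.germ V s hs).hom a)
    rw [← map_mul, mul_comm]
    exact congrArg _ e

/-- An étale neighbourhood of a point in its fibre lifts to the total space. -/
theorem exists_lift (x : X) {V : Scheme.{u}} (g : V ⟶ f.fiber (f x)) [Etale g] (v : V) (hv : g v = f.asFiber x) :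
    ∃ (U : Scheme.{u}) (p : U ⟶ X) (u : U) (m : (p ≫ f).fiber (f x) ⟶ V) (u' : ↑((p ≫ f).fiber (f x))),
      Etale p ∧ p u = x ∧ IsOpenImmersion m ∧ m ≫ g = MoreMor.fiberMap p f (f x) ∧
      (p ≫ f).fiberι (f x) u' = u ∧ m u' = v := by
  obtain ⟨VS, hVS, hxVS, -⟩ := exists_isAffineOpen_mem_and_subset (X := S) (x := f x) (U := ⊤) trivial
  obtain ⟨Ω, hΩ, hxΩ, hΩV⟩ := exists_isAffineOpen_mem_and_subset (x := x) (U := f ⁻¹ᵁ VS) hxVS
  let θ := f.appLE VS Ω hΩV
  letI : Algebra Γ(S, VS) Γ(X, Ω) := θ.hom.toAlgebra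
  let ev := S.evaluation VS (f x) hxVS
  letI : Algebra Γ(S, VS) (S.residueField (f x)) := ev.hom.toAlgebra
  letI : Algebra Γ(S, VS) (IsLocalRing.ResidueField (S.presheaf.stalk (f x))) := ev.hom.toAlgebra
  let F := CommRingCat.of (Γ(X, Ω) ⊗[Γ(S, VS)] S.residueField (f x))
  let χ : Γ(X, Ω) ⟶ F := CommRingCat.ofHom Algebra.TensorProduct.includeLeftRingHom
  let χk : S.residueField (f x) ⟶ F := CommRingCat.ofHom Algebra.TensorProduct.includeRight.toRingHom
  have hev : Spec.map ev ≫ hVS.fromSpec = S.fromSpecResidueField (f x) := by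
    rw [show ev = S.presheaf.germ VS (f x) hxVS ≫ S.residue (f x) from rfl, Spec.map_comp, Category.assoc]
    show _ ≫ hVS.fromSpecStalk hxVS = _
    rw [hVS.fromSpecStalk_eq_fromSpecStalk]
    rfl
  have hP : IsPullback (Spec.map χ) (Spec.map χk) (hΩ.fromSpec ≫ f) (S.fromSpecResidueField (f x)) := by
    have h1 : IsPullback (Spec.map χ) (Spec.map χk) (Spec.map θ) (Spec.map ev) :=
      isPullback_SpecMap_of_isPushout _ _ _ _
        (CommRingCat.isPushout_tensorProduct Γ(S, VS) Γ(X, Ω) (S.residueField (f x)))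
    rw [← hVS.SpecMap_appLE_fromSpec f hΩ hΩV, ← hev]
    exact ⟨⟨h1.w_assoc _⟩, ⟨PullbackCone.IsLimit.mk _
      (fun c => h1.lift c.fst c.snd (by rw [← cancel_mono hVS.fromSpec, Category.assoc, Category.assoc]; exact c.condition))
      (fun c => h1.lift_fst _ _ _) (fun c => h1.lift_snd _ _ _)
      (fun c k h2 h3 => h1.hom_ext (by rw [h2, h1.lift_fst]) (by rw [h3, h1.lift_snd]))⟩⟩
  let jF : Spec F ⟶ f.fiber (f x) := pullback.lift (Spec.map χ ≫ hΩ.fromSpec) (Spec.map χk)
    (by rw [Category.assoc]; exact hP.w)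
  have hjF : IsPullback (Spec.map χ) jF hΩ.fromSpec (f.fiberι (f x)) := by
    refine IsPullback.of_bot ?_ (pullback.lift_fst _ _ _).symm (IsPullback.of_hasPullback f (S.fromSpecResidueField (f x)))
    rw [show jF ≫ pullback.snd f (S.fromSpecResidueField (f x)) = Spec.map χk from pullback.lift_snd _ _ _]
    exact hP
  haveI : IsOpenImmersion jF := MorphismProperty.of_isPullback (P := @IsOpenImmersion) hjF inferInstance
  have hχ : ∀ z : F, ∃ σ b, IsUnit (χ.hom σ) ∧ χ.hom σ * z = χ.hom b := by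
    intro z
    induction z using TensorProduct.induction_on with
    | zero => exact ⟨1, 0, by simp, by simp⟩
    | tmul b k =>
      obtain ⟨σ, a, hσ, he⟩ := exists_fraction hVS (f x) hxVS k
      have hc : ∀ r : Γ(S, VS), χ.hom (θ.hom r) = (1 : Γ(X, Ω)) ⊗ₜ[Γ(S, VS)] (ev.hom r) := fun r => by
        show (algebraMap Γ(S, VS) Γ(X, Ω) r) ⊗ₜ[Γ(S, VS)] (1 : S.residueField (f x)) = _
        rw [Algebra.algebraMap_eq_smul_one, TensorProduct.smul_tmul, ← Algebra.algebraMap_eq_smul_one]
        rfl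
      refine ⟨θ.hom σ, b * θ.hom a, ?_, ?_⟩
      · rw [hc]
        exact (isUnit_iff_ne_zero.2 hσ).map Algebra.TensorProduct.includeRight.toRingHom
      · rw [map_mul, hc, hc, show χ.hom b = b ⊗ₜ[Γ(S, VS)] (1 : S.residueField (f x)) from rfl,
          Algebra.TensorProduct.tmul_mul_tmul, Algebra.TensorProduct.tmul_mul_tmul, one_mul, mul_one, one_mul]
        exact congrArg _ he
    | add y z hy hz =>
      obtain ⟨σ, b, hσ, e⟩ := hy
      obtain ⟨τ, c, hτ, e'⟩ := hz
      refine ⟨σ * τ, τ * b + σ * c, by rw [map_mul]; exact hσ.mul hτ, ?_⟩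
      rw [map_add, map_mul, map_mul, map_mul, ← e, ← e']
      ring
  -- the piece of the neighbourhood over the affine piece of the fibre
  have hvF : g v ∈ jF.opensRange := by
    show g v ∈ Set.range jF
    rw [hv]
    obtain ⟨a, ha⟩ : x ∈ Set.range hΩ.fromSpec := by rw [hΩ.range_fromSpec]; exact hxΩ
    obtain ⟨w, -, hw⟩ := Scheme.Pullback.exists_preimage_pullback (f := hΩ.fromSpec) (g := f.fiberι (f x)) a
      (f.asFiber x) (by rw [ha, f.fiberι_asFiber])
    exact ⟨hjF.isoPullback.inv w, by rw [← Scheme.Hom.comp_apply, hjF.isoPullback_inv_snd, hw]⟩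
  obtain ⟨V₁, hV₁, hvV₁, hV₁F⟩ := exists_isAffineOpen_mem_and_subset (x := v) (U := g ⁻¹ᵁ jF.opensRange) hvF
  let l : Spec Γ(V, V₁) ⟶ Spec F := IsOpenImmersion.lift jF (hV₁.fromSpec ≫ g) (by
    rintro _ ⟨w, rfl⟩
    rw [Scheme.Hom.comp_apply]
    exact hV₁F (hV₁.range_fromSpec.subset ⟨w, rfl⟩))
  have hl : l ≫ jF = hV₁.fromSpec ≫ g := IsOpenImmersion.lift_fac _ _ _
  haveI : Etale l := by
    haveI : Etale (l ≫ jF) := by rw [hl]; infer_instance
    exact MorphismProperty.of_postcomp (W := @Etale) (W' := @Etale) l jF inferInstance this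
  let ψ := Spec.preimage l
  letI : Algebra F Γ(V, V₁) := ψ.hom.toAlgebra
  haveI : Algebra.Etale F Γ(V, V₁) := by
    refine RingHom.etale_algebraMap.1 ?_
    show ψ.hom.Etale
    rw [← HasRingHomProperty.Spec_iff (P := @Etale), Spec.map_preimage]
    infer_instance
  obtain ⟨qv, hqv⟩ : v ∈ Set.range hV₁.fromSpec := by rw [hV₁.range_fromSpec]; exact hvV₁
  haveI : qv.asIdeal.IsPrime := qv.isPrime
  obtain ⟨h, hh, hstd⟩ := Algebra.IsEtaleAt.exists_isStandardEtale (R := F) qv.asIdeal
  haveI := hstd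
  let G := CommRingCat.of (Localization.Away h)
  let ℓ : Γ(V, V₁) ⟶ G := CommRingCat.ofHom (algebraMap Γ(V, V₁) (Localization.Away h))
  haveI : IsOpenImmersion (Spec.map ℓ) := IsOpenImmersion.of_isLocalization h
  obtain ⟨qG, hqG⟩ : qv ∈ Set.range (Spec.map ℓ) :=
    (PrimeSpectrum.localization_away_comap_range (Localization.Away h) h).ge hh
  haveI : Nontrivial F :=
    PrimeSpectrum.nontrivial (Spec.map (CommRingCat.ofHom (algebraMap F (Localization.Away h))) qG)
  obtain ⟨σ, χ', hχ', R, α, β, hα, hpush⟩ :=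
    exists_lift_standard (G := Localization.Away h) χ.hom hχ
  haveI : IsOpenImmersion (Spec.map (CommRingCat.ofHom (algebraMap Γ(X, Ω) (Localization.Away σ)))) :=
    IsOpenImmersion.of_isLocalization σ
  haveI : Etale (Spec.map (CommRingCat.ofHom α)) := HasRingHomProperty.Spec_iff.2 hα
  let ρ := Spec.map (CommRingCat.ofHom (algebraMap Γ(X, Ω) (Localization.Away σ)))
  let p : Spec R ⟶ X := Spec.map (CommRingCat.ofHom α) ≫ ρ ≫ hΩ.fromSpec
  let jV : Spec G ⟶ V := Spec.map ℓ ≫ hV₁.fromSpec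
  let t : Spec G ⟶ Spec F := Spec.map (CommRingCat.ofHom (algebraMap F (Localization.Away h)))
  have ht : t ≫ jF = jV ≫ g := by
    rw [Category.assoc, ← hl, ← Category.assoc]
    congr 1
    rw [← Spec.map_preimage l, ← Spec.map_comp]
    exact congrArg Spec.map (CommRingCat.hom_ext (IsScalarTower.algebraMap_eq F Γ(V, V₁) (Localization.Away h)))
  have hsq₂ : IsPullback (Spec.map (CommRingCat.ofHom χ')) jF (ρ ≫ hΩ.fromSpec) (f.fiberι (f x)) := by
    have hfac : Spec.map (CommRingCat.ofHom χ') ≫ ρ = Spec.map χ := by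
      rw [← Spec.map_comp]
      exact congrArg Spec.map (CommRingCat.hom_ext hχ')
    have := (isPullback_of_mono_fac _ ρ _ hfac).paste_vert hjF.flip.flip
    simpa only [Category.id_comp] using this
  have hsq₁ : IsPullback (Spec.map (CommRingCat.ofHom β)) t (Spec.map (CommRingCat.ofHom α))
      (Spec.map (CommRingCat.ofHom χ')) :=
    isPullback_SpecMap_of_isPushout _ _ _ _ hpush.flip
  have hsq : IsPullback (Spec.map (CommRingCat.ofHom β)) (jV ≫ g) p (f.fiberι (f x)) := by
    have := hsq₁.paste_vert hsq₂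
    rwa [ht] at this
  have hfib : IsPullback ((p ≫ f).fiberι (f x)) (MoreMor.fiberMap p f (f x)) p (f.fiberι (f x)) := by
    refine IsPullback.of_bot ?_ (pullback.lift_fst _ _ _).symm (IsPullback.of_hasPullback f (S.fromSpecResidueField (f x)))
    rw [show MoreMor.fiberMap p f (f x) ≫ pullback.snd f (S.fromSpecResidueField (f x)) =
      (p ≫ f).fiberToSpecResidueField (f x) from pullback.lift_snd _ _ _]
    exact IsPullback.of_hasPullback _ _
  let e := hfib.isoIsPullback _ _ hsq
  haveI : Etale p := inferInstance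
  let u' := e.inv qG
  refine ⟨Spec R, p, (p ≫ f).fiberι (f x) u', e.hom ≫ jV, u', inferInstance, ?_, inferInstance, ?_, rfl, ?_⟩
  · rw [← Scheme.Hom.comp_apply, hfib.w, Scheme.Hom.comp_apply, ← Scheme.Hom.comp_apply e.inv,
      IsPullback.isoIsPullback_inv_snd, Scheme.Hom.comp_apply, Scheme.Hom.comp_apply, hqG, hqv, hv,
      f.fiberι_asFiber]
  · exact (Category.assoc _ _ _).trans (IsPullback.isoIsPullback_hom_snd _ _ _ _)
  · show (e.hom ≫ jV) (e.inv qG) = v
    rw [← Scheme.Hom.comp_apply, Iso.inv_hom_id_assoc]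
    show hV₁.fromSpec (Spec.map ℓ qG) = v
    rw [hqG, hqv]

end Groth.Agent.EtFibreLift
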